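import Mathlib.CategoryTheory.Triangulated.Pretriangulated
import Mathlib.CategoryTheory.Limits.Preserves.Shapes.Products
import Mathlib.CategoryTheory.Yoneda

/-!
# Sums of distinguished triangles
-/

universe w v u

set_option backward.defeqAttrib.useBackward true
set_option backward.isDefEq.respectTransparency false

open CategoryTheory CategoryTheory.Limits CategoryTheory.Pretriangulated

namespace Groth.Agent.Lib.Triangulated.Sums

variable {D : Type u} [Category.{v} D] [Preadditive D] [HasZeroObject D] [HasShift D ℤ]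
  [∀ n : ℤ, (shiftFunctor D n).Additive] [Pretriangulated D]

/-- A binary biproduct as a product over `Bool`. -/
noncomputable def biprodIso (X : Bool → D) : X true ⊞ X false ≅ ∏ᶜ X where
  hom := Pi.lift fun j => match j with
    | true => biprod.fst
    | false => biprod.snd
  inv := biprod.lift (Pi.π X true) (Pi.π X false)
  hom_inv_id := by ext <;> simp
  inv_hom_id := by
    refine Pi.hom_ext _ _ fun j => ?_
    cases j <;> simp

@[reassoc (attr := simp)]
lemma biprodIso_π_true (X : Bool → D) : (biprodIso X).hom ≫ Pi.π X true = biprod.fst := by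
  simp [biprodIso]

@[reassoc (attr := simp)]
lemma biprodIso_π_false (X : Bool → D) : (biprodIso X).hom ≫ Pi.π X false = biprod.snd := by
  simp [biprodIso]

/-- The sum of two triangles. -/
noncomputable def sumTriangle (T T' : Triangle D) : Triangle D :=
  Triangle.mk (biprod.map T.mor₁ T'.mor₁) (biprod.map T.mor₂ T'.mor₂)
    (biprod.desc (T.mor₃ ≫ (shiftFunctor D (1 : ℤ)).map biprod.inl)
      (T'.mor₃ ≫ (shiftFunctor D (1 : ℤ)).map biprod.inr))

lemma sum_distinguished {T T' : Triangle D} (hT : T ∈ distTriang D) (hT' : T' ∈ distTriang D) :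
    sumTriangle T T' ∈ distTriang D := by
  suffices key : ∀ F : Bool → Triangle D, (∀ j, F j ∈ distTriang D) →
      sumTriangle (F true) (F false) ∈ distTriang D from
    key (fun j => match j with | true => T | false => T') fun j => by cases j <;> assumption
  intro F hF
  refine isomorphic_distinguished _ (productTriangle_distinguished F hF) _ ?_
  refine Triangle.isoMk _ _ (biprodIso fun j => (F j).obj₁) (biprodIso fun j => (F j).obj₂)
    (biprodIso fun j => (F j).obj₃) ?_ ?_ ?_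
  · dsimp [sumTriangle, productTriangle]
    refine Pi.hom_ext _ _ fun j => ?_
    cases j <;> simp
  · dsimp [sumTriangle, productTriangle]
    refine Pi.hom_ext _ _ fun j => ?_
    cases j <;> simp
  · dsimp [sumTriangle, productTriangle]
    rw [← cancel_mono (piComparison (shiftFunctor D (1 : ℤ)) (fun j => (F j).obj₁))]
    refine Pi.hom_ext _ _ fun j => ?_
    cases j <;> simp [← Functor.map_comp] <;> apply biprod.hom_ext' <;> simp [← Functor.map_comp]

/-- A triangle that is a direct summand, compatibly, of a distinguished triangle. -/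
lemma exists_comparison {T S : Triangle D} (hS : S ∈ distTriang D) (i : T ⟶ S) (r : S ⟶ T)
    (h₁ : i.hom₁ ≫ r.hom₁ = 𝟙 _) (h₂ : i.hom₂ ≫ r.hom₂ = 𝟙 _) :
    ∃ (T₀ : Triangle D) (_ : T₀ ∈ distTriang D) (β : T₀ ⟶ T), IsIso β.hom₁ ∧ IsIso β.hom₂ := by
  obtain ⟨Z, g, h, hT₀⟩ := distinguished_cocone_triangle T.mor₁
  let α := completeDistinguishedTriangleMorphism _ _ hT₀ hS i.hom₁ i.hom₂ i.comm₁
  refine ⟨_, hT₀, α ≫ r, ?_, ?_⟩
  · change IsIso (i.hom₁ ≫ r.hom₁)
    exact h₁.symm ▸ IsIso.id T.obj₁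
  · change IsIso (i.hom₂ ≫ r.hom₂)
    exact h₂.symm ▸ IsIso.id T.obj₂

/-- The sum is functorial. -/
noncomputable def sumMap {T T' U U' : Triangle D} (f : T ⟶ U) (f' : T' ⟶ U') :
    sumTriangle T T' ⟶ sumTriangle U U' where
  hom₁ := biprod.map f.hom₁ f'.hom₁
  hom₂ := biprod.map f.hom₂ f'.hom₂
  hom₃ := biprod.map f.hom₃ f'.hom₃
  comm₁ := by simp [sumTriangle]; apply biprod.hom_ext <;> simp
  comm₂ := by simp [sumTriangle]; apply biprod.hom_ext <;> simp
  comm₃ := by
    simp only [sumTriangle, Triangle.mk_mor₃]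
    apply biprod.hom_ext'
    · simp [← Functor.map_comp]
      rw [← reassoc_of% f.comm₃, ← Functor.map_comp]
    · simp [← Functor.map_comp]
      rw [← reassoc_of% f'.comm₃, ← Functor.map_comp]

theorem sum_distinguished_iff (T T' : Triangle D) :
    sumTriangle T T' ∈ distTriang D ↔ T ∈ distTriang D ∧ T' ∈ distTriang D := by
  refine ⟨fun h => ?_, fun h => sum_distinguished h.1 h.2⟩
  obtain ⟨T₀, hT₀, β, b₁, b₂⟩ := exists_comparison h (T := T)
    { hom₁ := biprod.inl, hom₂ := biprod.inl, hom₃ := biprod.inl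
      comm₁ := by simp [sumTriangle]
      comm₂ := by simp [sumTriangle]
      comm₃ := by simp [sumTriangle] }
    { hom₁ := biprod.fst, hom₂ := biprod.fst, hom₃ := biprod.fst
      comm₁ := by simp [sumTriangle]
      comm₂ := by simp [sumTriangle]
      comm₃ := by
        simp only [sumTriangle, Triangle.mk_mor₃]
        apply biprod.hom_ext' <;> simp [← Functor.map_comp] }
    biprod.inl_fst biprod.inl_fst
  obtain ⟨U₀, hU₀, γ, c₁, c₂⟩ := exists_comparison h (T := T')
    { hom₁ := biprod.inr, hom₂ := biprod.inr, hom₃ := biprod.inr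
      comm₁ := by simp [sumTriangle]
      comm₂ := by simp [sumTriangle]
      comm₃ := by simp [sumTriangle] }
    { hom₁ := biprod.snd, hom₂ := biprod.snd, hom₃ := biprod.snd
      comm₁ := by simp [sumTriangle]
      comm₂ := by simp [sumTriangle]
      comm₃ := by
        simp only [sumTriangle, Triangle.mk_mor₃]
        apply biprod.hom_ext' <;> simp [← Functor.map_comp] }
    biprod.inr_snd biprod.inr_snd
  have e₁ : IsIso (biprod.map β.hom₁ γ.hom₁) :=
    (biprod.mapIso (asIso β.hom₁) (asIso γ.hom₁)).isIso_hom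
  have e₂ : IsIso (biprod.map β.hom₂ γ.hom₂) :=
    (biprod.mapIso (asIso β.hom₂) (asIso γ.hom₂)).isIso_hom
  have e₃ : IsIso (biprod.map β.hom₃ γ.hom₃) :=
    isIso₃_of_isIso₁₂ (sumMap β γ) (sum_distinguished hT₀ hU₀) h e₁ e₂
  have := isIso_left_of_isIso_biprod_map β.hom₃ γ.hom₃
  have := isIso_right_of_isIso_biprod_map β.hom₃ γ.hom₃
  exact ⟨isomorphic_distinguished _ hT₀ _ (Triangle.isoMk _ _ (asIso β.hom₁) (asIso β.hom₂)
      (asIso β.hom₃) β.comm₁ β.comm₂ β.comm₃).symm,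
    isomorphic_distinguished _ hU₀ _ (Triangle.isoMk _ _ (asIso γ.hom₁) (asIso γ.hom₂)
      (asIso γ.hom₃) γ.comm₁ γ.comm₂ γ.comm₃).symm⟩

/-- Coproducts of distinguished triangles. -/
theorem coproduct_distinguished {J : Type w} (T : J → Triangle D) (hT : ∀ j, T j ∈ distTriang D)
    [HasCoproduct (fun j => (T j).obj₁)] [HasCoproduct (fun j => (T j).obj₂)]
    [HasCoproduct (fun j => (T j).obj₃)] :
    Triangle.mk (Limits.Sigma.map (fun j => (T j).mor₁)) (Limits.Sigma.map (fun j => (T j).mor₂))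
      (Sigma.desc (fun j => (T j).mor₃ ≫
        (shiftFunctor D (1 : ℤ)).map (Sigma.ι (fun j => (T j).obj₁) j))) ∈ distTriang D := by
  let X := fun j => (T j).obj₁
  let F := Limits.Sigma.map (fun j => (T j).mor₁)
  obtain ⟨Z, G, H, hS⟩ := distinguished_cocone_triangle F
  let S := Triangle.mk F G H
  let φ : ∀ j, T j ⟶ S := fun j => completeDistinguishedTriangleMorphism _ _ (hT j) hS
    (Sigma.ι (fun j => (T j).obj₁) j) (Sigma.ι (fun j => (T j).obj₂) j)
    (Sigma.ι_map (fun j => (T j).mor₁) j).symm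
  have hφ₁ : ∀ j, (φ j).hom₁ = Sigma.ι X j := fun j => rfl
  have hφ₂ : ∀ j, (φ j).hom₂ = Sigma.ι (fun j => (T j).obj₂) j := fun j => rfl
  let Φ : (∐ fun j => (T j).obj₃) ⟶ Z := Sigma.desc fun j => (φ j).hom₃
  have hX₁ : IsColimit (Cofan.mk ((∐ X)⟦(1 : ℤ)⟧)
      (fun j => (Sigma.ι X j)⟦(1 : ℤ)⟧') : Cofan fun j => (X j)⟦(1 : ℤ)⟧) :=
    isColimitCofanMkObjOfIsColimit (shiftFunctor D (1 : ℤ)) _ _ (coproductIsCoproduct X)
  have c₂ : ∀ j, (T j).mor₂ ≫ (φ j).hom₃ = Sigma.ι (fun j => (T j).obj₂) j ≫ G := fun j =>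
    (φ j).comm₂
  have c₃ : ∀ j, (T j).mor₃ ≫ (Sigma.ι X j)⟦(1 : ℤ)⟧' = (φ j).hom₃ ≫ H := fun j => (φ j).comm₃
  have : IsIso Φ := by
    refine isIso_of_coyoneda_map_bijective Φ fun W => ⟨?_, fun u => ?_⟩
    · suffices h : ∀ u : Z ⟶ W, (∀ j, (φ j).hom₃ ≫ u = 0) → u = 0 by
        intro u v huv
        rw [← sub_eq_zero]
        refine h _ fun j => ?_
        have := Sigma.ι (fun j => (T j).obj₃) j ≫= huv
        simpa [Φ, Preadditive.comp_sub, sub_eq_zero] using this
      intro u hu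
      obtain ⟨w, hw : u = H ≫ w⟩ := Triangle.yoneda_exact₃ S hS u (Sigma.hom_ext _ _ fun j => by
        change Sigma.ι (fun j => (T j).obj₂) j ≫ G ≫ u = Sigma.ι (fun j => (T j).obj₂) j ≫ 0
        rw [← reassoc_of% (c₂ j), hu j, comp_zero, comp_zero])
      have hw' : ∀ j, ∃ k : (T j).obj₂⟦(1 : ℤ)⟧ ⟶ W,
          (Sigma.ι X j)⟦(1 : ℤ)⟧' ≫ w = (-(T j).mor₁⟦(1 : ℤ)⟧') ≫ k := fun j =>
        Triangle.yoneda_exact₂ (T j).rotate.rotate
          (rot_of_distTriang _ (rot_of_distTriang _ (hT j))) _ (by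
            change (T j).mor₃ ≫ (Sigma.ι X j)⟦(1 : ℤ)⟧' ≫ w = 0
            rw [reassoc_of% (c₃ j), ← hw, hu j])
      choose k hk using hw'
      have hY₁ : IsColimit (Cofan.mk ((∐ fun j => (T j).obj₂)⟦(1 : ℤ)⟧)
          (fun j => (Sigma.ι (fun j => (T j).obj₂) j)⟦(1 : ℤ)⟧') :
            Cofan fun j => ((T j).obj₂)⟦(1 : ℤ)⟧) :=
        isColimitCofanMkObjOfIsColimit (shiftFunctor D (1 : ℤ)) _ _ (coproductIsCoproduct _)
      let K := Cofan.IsColimit.desc hY₁ k
      have hK : w = (-F⟦(1 : ℤ)⟧') ≫ K := Cofan.IsColimit.hom_ext hX₁ _ _ fun j => by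
        change (Sigma.ι X j)⟦(1 : ℤ)⟧' ≫ w = (Sigma.ι X j)⟦(1 : ℤ)⟧' ≫ (-F⟦(1 : ℤ)⟧') ≫ K
        rw [hk j, Preadditive.neg_comp, Preadditive.neg_comp, Preadditive.comp_neg,
          ← Functor.map_comp_assoc, Sigma.ι_map, Functor.map_comp_assoc]
        congr 2
        exact (Cofan.IsColimit.fac hY₁ k j).symm
      rw [hw, hK, Preadditive.neg_comp, Preadditive.comp_neg,
        show H ≫ F⟦(1 : ℤ)⟧' ≫ K = 0 by
          rw [← Category.assoc]
          exact (congrArg (· ≫ K) (comp_distTriang_mor_zero₃₁ S hS)).trans zero_comp, neg_zero]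
    · let v := Sigma.desc fun j => (T j).mor₂ ≫ Sigma.ι (fun j => (T j).obj₃) j ≫ u
      obtain ⟨(u₀ : Z ⟶ W), hu₀ : v = G ≫ u₀⟩ := Triangle.yoneda_exact₂ S hS v (Sigma.hom_ext _ _ fun j => by
        change Sigma.ι X j ≫ F ≫ v = Sigma.ι X j ≫ 0
        simp [F, v, X]
        rw [reassoc_of% (comp_distTriang_mor_zero₁₂ _ (hT j)), zero_comp])
      have hw' : ∀ j, ∃ w : (T j).obj₁⟦(1 : ℤ)⟧ ⟶ W,
          Sigma.ι (fun j => (T j).obj₃) j ≫ u - (φ j).hom₃ ≫ u₀ = (T j).mor₃ ≫ w := fun j =>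
        Triangle.yoneda_exact₃ (T j) (hT j) _ (by
          rw [Preadditive.comp_sub, reassoc_of% (c₂ j), ← hu₀, Sigma.ι_desc, sub_self])
      choose w hw using hw'
      let w₀ := Cofan.IsColimit.desc hX₁ w
      refine ⟨(show Z ⟶ W from u₀) + H ≫ w₀, Sigma.hom_ext _ _ fun j => ?_⟩
      have e : (Sigma.ι X j)⟦(1 : ℤ)⟧' ≫ w₀ = w j := Cofan.IsColimit.fac hX₁ w j
      simp only [Φ, Sigma.ι_desc_assoc]
      rw [Preadditive.comp_add, ← reassoc_of% (c₃ j), e, ← hw j, add_sub_cancel]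
  refine isomorphic_distinguished _ hS _ ?_
  refine Triangle.isoMk _ _ (Iso.refl _) (Iso.refl _) (asIso Φ) (by simp [F]) ?_ ?_
  · refine Sigma.hom_ext _ _ fun j => ?_
    simp [Φ]
    first | exact c₂ j | exact (φ j).comm₂ ▸ c₂ j | rfl
  · refine Sigma.hom_ext _ _ fun j => ?_
    simp [Φ]
    exact c₃ j

end Groth.Agent.Lib.Triangulated.Sums
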