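import Groth.Agent.Lib.Triangulated.Sums
import Mathlib.CategoryTheory.Triangulated.Generators

/-!
# Bounds on generation
-/

universe v u

open CategoryTheory CategoryTheory.Limits CategoryTheory.Pretriangulated ObjectProperty

namespace Groth.Agent.Lib.Triangulated.GenBound

variable {D : Type u} [Category.{v} D] [Preadditive D] [HasZeroObject D] [HasShift D ℤ]
  [∀ n : ℤ, (shiftFunctor D n).Additive] [Pretriangulated D]

/-- Closed under binary sums. -/
def SumClosed (R : ObjectProperty D) : Prop := ∀ ⦃X Y : D⦄, R X → R Y → R (X ⊞ Y)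

lemma sumClosed_retractClosure {R : ObjectProperty D} (h : SumClosed R) :
    SumClosed R.retractClosure := by
  rintro X Y ⟨X', hX, ⟨rX⟩⟩ ⟨Y', hY, ⟨rY⟩⟩
  exact ⟨_, h hX hY, ⟨{ i := biprod.map rX.i rY.i, r := biprod.map rX.r rY.r }⟩⟩

lemma sumClosed_extensionProduct {R S : ObjectProperty D} (hR : SumClosed R) (hS : SumClosed S) :
    SumClosed (extensionProduct R S) := by
  rintro X Y ⟨A, B, f, g, h, hT, hA, hB⟩ ⟨A', B', f', g', h', hT', hA', hB'⟩
  exact ⟨_, _, _, _, _, Sums.sum_distinguished hT hT', hR hA hA', hS hB hB'⟩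

lemma sumClosed_iter (Q : ObjectProperty D) (n : ℕ) : SumClosed (Q.triangEnvelopeIter n) := by
  have h0 : SumClosed (Q.shiftClosure ℤ).binaryProductsClosure.retractClosure := by
    refine sumClosed_retractClosure fun X Y hX hY => ?_
    exact prop_of_iso _ (biprod.isoProd X Y).symm (prop_prod _ X Y hX hY)
  induction n with
  | zero => rwa [triangEnvelopeIter_zero]
  | succ n ih =>
    rw [triangEnvelopeIter_succ]
    exact sumClosed_retractClosure (sumClosed_extensionProduct h0 ih)

theorem exists_iter_le [IsTriangulated D] {P Q : ObjectProperty D} {m : ℕ}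
    (h : P ≤ Q.triangEnvelopeIter m) (n : ℕ) :
    ∃ N, P.triangEnvelopeIter n ≤ Q.triangEnvelopeIter N := by
  have h0 : P.triangEnvelopeIter 0 ≤ Q.triangEnvelopeIter m := by
    rw [triangEnvelopeIter_zero, retractClosure_le_iff]
    have : (Q.triangEnvelopeIter m).IsClosedUnderLimitsOfShape (Discrete WalkingPair) :=
      ⟨fun Z hZ => by
        obtain ⟨p, hp⟩ := hZ
        let e : Limits.pair (p.diag.obj ⟨.left⟩) (p.diag.obj ⟨.right⟩) ≅ p.diag := (diagramIsoPair _).symm
        have hl := (IsLimit.postcomposeInvEquiv e _).symm p.isLimit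
        have e' : p.diag.obj ⟨.left⟩ ⨯ p.diag.obj ⟨.right⟩ ≅ Z :=
          (limit.isLimit (Limits.pair _ _)).conePointUniqueUpToIso hl
        exact prop_of_iso _ ((biprod.isoProd _ _) ≪≫ e') (sumClosed_iter Q m (hp _) (hp _))⟩
    refine limitsClosure_le ?_
    rw [shiftClosure_le_iff]
    exact h
  induction n with
  | zero => exact ⟨m, h0⟩
  | succ n ih =>
    obtain ⟨N, hN⟩ := ih
    refine ⟨m + (N + 1), ?_⟩
    rw [triangEnvelopeIter_succ, retractClosure_le_iff]
    rintro X ⟨A, B, f, g, e, hT, hA, hB⟩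
    rw [triangEnvelopeIter_add' Q (show N + 1 = N + 1 from rfl)]
    exact le_retractClosure _ _ ⟨A, B, f, g, e, hT, h0 _ (by rwa [triangEnvelopeIter_zero]),
      hN _ hB⟩

end Groth.Agent.Lib.Triangulated.GenBound
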