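import Groth.Prelude.Def_DerLim
import Mathlib.CategoryTheory.Triangulated.Pretriangulated
import Mathlib.CategoryTheory.Category.Preorder
import Mathlib.Algebra.BigOperators.Intervals
import Mathlib.Order.Monotone.Basic

/-!
# Homotopy colimits of cofinal subsequences
-/

universe v u

open CategoryTheory CategoryTheory.Limits CategoryTheory.Pretriangulated

namespace Groth.Agent.Lib.Triangulated.HocolimSubseq

variable {D : Type u} [Category.{v} D] [Preadditive D] [HasZeroObject D] [HasShift D ℤ]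
  [∀ n : ℤ, (shiftFunctor D n).Additive] [Pretriangulated D]

section Endo

variable {A B C : D} {u : A ⟶ B} {p : B ⟶ C} {w : C ⟶ A⟦(1 : ℤ)⟧}

/-- An endomorphism of a triangle which is homotopic to the identity on the first two vertices is
an isomorphism on the third. -/
lemma isIso_of_homotopic (hT : Triangle.mk u p w ∈ distTriang D) (θ : C ⟶ C) (h : B ⟶ A)
    {a : A ⟶ A} {b : B ⟶ B} (ha : a - 𝟙 A = u ≫ h) (hb : b - 𝟙 B = h ≫ u)
    (h₁ : p ≫ θ = b ≫ p) (h₂ : θ ≫ w = w ≫ a⟦(1 : ℤ)⟧') : IsIso θ := by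
  set δ := θ - 𝟙 C with hδ
  have hup : u ≫ p = 0 := comp_distTriang_mor_zero₁₂ _ hT
  have hwu : w ≫ u⟦(1 : ℤ)⟧' = 0 := comp_distTriang_mor_zero₃₁ _ hT
  have hpw : p ≫ w = 0 := comp_distTriang_mor_zero₂₃ _ hT
  have e1 : p ≫ δ = 0 := by
    have : p ≫ δ = (b - 𝟙 B) ≫ p := by
      rw [hδ, Preadditive.comp_sub, h₁, Preadditive.sub_comp, Category.comp_id, Category.id_comp]
    rw [this, hb, Category.assoc, hup, comp_zero]
  have e2 : δ ≫ w = 0 := by
    have : δ ≫ w = w ≫ (a - 𝟙 A)⟦(1 : ℤ)⟧' := by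
      rw [hδ, Preadditive.sub_comp, h₂, Functor.map_sub, CategoryTheory.Functor.map_id, Preadditive.comp_sub,
        Category.comp_id, Category.id_comp]
    rw [this, ha, Functor.map_comp, reassoc_of% hwu, zero_comp]
  obtain ⟨s, hs⟩ : ∃ s : A⟦(1 : ℤ)⟧ ⟶ C, δ = w ≫ s := Triangle.yoneda_exact₃ _ hT δ e1
  obtain ⟨r, hr⟩ : ∃ r : C ⟶ B, δ = r ≫ p := Triangle.coyoneda_exact₃ _ hT δ e2
  have hsq : δ ≫ δ = 0 := by
    calc δ ≫ δ = (r ≫ p) ≫ (w ≫ s) := by rw [← hr, ← hs]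
      _ = r ≫ (p ≫ w) ≫ s := by simp only [Category.assoc]
      _ = 0 := by rw [hpw, zero_comp, comp_zero]
  have hθ : θ = 𝟙 C + δ := by rw [hδ]; abel
  refine ⟨𝟙 C - δ, ?_, ?_⟩ <;> simp [hθ, Preadditive.add_comp, Preadditive.comp_add,
    Preadditive.comp_sub, Preadditive.sub_comp, hsq]

end Endo

variable (F : ℕ ⥤ D) [HasCoproduct (fun m : ℕ => F.obj m)]

/-- The component `F m ⟶ F k ⟶ ∐ F`. -/
noncomputable def e (m k : ℕ) : F.obj m ⟶ ∐ (fun m : ℕ => F.obj m) :=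
  if h : m ≤ k then F.map (homOfLE h) ≫ Sigma.ι (fun m : ℕ => F.obj m) k else 0

/-- `1 - shift`. -/
noncomputable def one_sub : (∐ (fun m : ℕ => F.obj m)) ⟶ ∐ (fun m : ℕ => F.obj m) :=
  𝟙 _ - DerLim.shiftMap (fun m : ℕ => F.obj m) (fun m : ℕ => F.map (homOfLE (Nat.le_succ m)))

omit [Preadditive D] [HasZeroObject D] [HasShift D ℤ] in
lemma map_comp_homOfLE {a b c : ℕ} (h : a ≤ b) (h' : b ≤ c) :
    F.map (homOfLE h) ≫ F.map (homOfLE h') = F.map (homOfLE (h.trans h')) := by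
  rw [← F.map_comp]; rfl

lemma e_self (m : ℕ) : e F m m = Sigma.ι (fun m : ℕ => F.obj m) m := by
  rw [e, dif_pos le_rfl]
  have : homOfLE (le_refl m) = 𝟙 m := rfl
  rw [this, F.map_id, Category.id_comp]

lemma map_e {l m k : ℕ} (h : l ≤ m) (h' : m ≤ k) : F.map (homOfLE h) ≫ e F m k = e F l k := by
  rw [e, e, dif_pos h', dif_pos (h.trans h'), ← Category.assoc, map_comp_homOfLE]

lemma ι_one_sub (m : ℕ) :
    Sigma.ι (fun m : ℕ => F.obj m) m ≫ one_sub F = e F m m - e F m (m + 1) := by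
  rw [e_self, one_sub, Preadditive.comp_sub, Category.comp_id, DerLim.shiftMap, Sigma.ι_desc,
    e, dif_pos (Nat.le_succ m)]

lemma e_one_sub {m k : ℕ} (h : m ≤ k) : e F m k ≫ one_sub F = e F m k - e F m (k + 1) := by
  conv_lhs => rw [e, dif_pos h, Category.assoc, ι_one_sub, Preadditive.comp_sub, map_e F h le_rfl,
    map_e F h (Nat.le_succ k)]

lemma sum_one_sub {m N : ℕ} (h : m ≤ N) :
    (∑ k ∈ Finset.Ico m N, e F m k) ≫ one_sub F = e F m m - e F m N := by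
  induction N, h using Nat.le_induction with
  | base => simp
  | succ N h ih =>
    rw [Finset.sum_Ico_succ_top h, Preadditive.add_comp, ih, e_one_sub F h]
    abel

variable (n : ℕ → ℕ) (hn : StrictMono n)

/-- The least index `i` with `m ≤ n i`. -/
def idx (m : ℕ) : ℕ := Nat.find (⟨m, hn.le_apply⟩ : ∃ i, m ≤ n i)

lemma le_idx (m : ℕ) : m ≤ n (idx n hn m) := Nat.find_spec (⟨m, hn.le_apply⟩ : ∃ i, m ≤ n i)

lemma idx_min {m i : ℕ} (h : m ≤ n i) : idx n hn m ≤ i := Nat.find_min' _ h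

lemma idx_n (i : ℕ) : idx n hn (n i) = i :=
  le_antisymm (idx_min n hn le_rfl) (hn.le_iff_le.1 (le_idx n hn (n i)))

lemma idx_succ_of_lt {m : ℕ} (h : m < n (idx n hn m)) : idx n hn (m + 1) = idx n hn m :=
  le_antisymm (idx_min n hn h) (idx_min n hn (by have := le_idx n hn (m + 1); omega))

lemma idx_succ_n (i : ℕ) : idx n hn (n i + 1) = i + 1 := by
  refine le_antisymm (idx_min n hn (hn (Nat.lt_succ_self i))) ?_
  by_contra hlt
  have h1 := hn.monotone (show idx n hn (n i + 1) ≤ i by omega)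
  have := le_idx n hn (n i + 1)
  omega

variable [HasCoproduct (fun i : ℕ => F.obj (n i))]

/-- The component `F m ⟶ F (n i) ⟶ ∐ F ∘ n`. -/
noncomputable def e' (m i : ℕ) : F.obj m ⟶ ∐ (fun i : ℕ => F.obj (n i)) :=
  if h : m ≤ n i then F.map (homOfLE h) ≫ Sigma.ι (fun i : ℕ => F.obj (n i)) i else 0

/-- `1 - shift` of the subsequence. -/
noncomputable def one_sub' :
    (∐ (fun i : ℕ => F.obj (n i))) ⟶ ∐ (fun i : ℕ => F.obj (n i)) :=
  𝟙 _ - DerLim.shiftMap (fun i : ℕ => F.obj (n i))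
    (fun i : ℕ => F.map (homOfLE (hn.monotone (Nat.le_succ i))))

lemma e'_n (i : ℕ) : e' F n (n i) i = Sigma.ι (fun i : ℕ => F.obj (n i)) i := by
  rw [e', dif_pos le_rfl]
  have : homOfLE (le_refl (n i)) = 𝟙 (n i) := rfl
  rw [this, F.map_id, Category.id_comp]

lemma map_e' {l m i : ℕ} (h : l ≤ m) (h' : m ≤ n i) :
    F.map (homOfLE h) ≫ e' F n m i = e' F n l i := by
  rw [e', e', dif_pos h', dif_pos (h.trans h'), ← Category.assoc, map_comp_homOfLE]

lemma ι_one_sub' (i : ℕ) :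
    Sigma.ι (fun i : ℕ => F.obj (n i)) i ≫ one_sub' F n hn =
      e' F n (n i) i - e' F n (n i) (i + 1) := by
  rw [e'_n, one_sub', Preadditive.comp_sub, Category.comp_id, DerLim.shiftMap, Sigma.ι_desc,
    e', dif_pos (hn.monotone (Nat.le_succ i))]

/-- First component of the comparison. -/
noncomputable def fa : (∐ (fun i : ℕ => F.obj (n i))) ⟶ ∐ (fun m : ℕ => F.obj m) :=
  Sigma.desc fun i => ∑ k ∈ Finset.Ico (n i) (n (i + 1)), e F (n i) k

/-- Second component of the comparison. -/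
noncomputable def fb : (∐ (fun i : ℕ => F.obj (n i))) ⟶ ∐ (fun m : ℕ => F.obj m) :=
  Sigma.desc fun i => e F (n i) (n i)

/-- Second component of the inverse. -/
noncomputable def gd : (∐ (fun m : ℕ => F.obj m)) ⟶ ∐ (fun i : ℕ => F.obj (n i)) :=
  Sigma.desc fun m => e' F n m (idx n hn m)

/-- First component of the inverse. -/
noncomputable def gc : (∐ (fun m : ℕ => F.obj m)) ⟶ ∐ (fun i : ℕ => F.obj (n i)) :=
  Sigma.desc fun m => if n (idx n hn m) = m then e' F n m (idx n hn m) else 0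

/-- The homotopy. -/
noncomputable def hty : (∐ (fun m : ℕ => F.obj m)) ⟶ ∐ (fun m : ℕ => F.obj m) :=
  Sigma.desc fun m => -∑ k ∈ Finset.Ico m (n (idx n hn m)), e F m k

lemma e_fb (m i : ℕ) (h : m ≤ n i) : e' F n m i ≫ fb F n = e F m (n i) := by
  rw [e', dif_pos h, Category.assoc, fb, Sigma.ι_desc, map_e F h le_rfl]

lemma e_gd (m k : ℕ) (h : m ≤ k) : e F m k ≫ gd F n hn = e' F n m (idx n hn k) := by
  rw [e, dif_pos h, Category.assoc, gd, Sigma.ι_desc, map_e' F n h (le_idx n hn k)]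

lemma fb_gd : fb F n ≫ gd F n hn = 𝟙 _ := Sigma.hom_ext _ _ fun i => by
  rw [fb, Sigma.ι_desc_assoc, e_gd F n hn _ _ le_rfl, idx_n, e'_n, Category.comp_id]

lemma e_gc (m k : ℕ) (h : m ≤ k) :
    e F m k ≫ gc F n hn = if n (idx n hn k) = k then e' F n m (idx n hn k) else 0 := by
  rw [e, dif_pos h, Category.assoc, gc, Sigma.ι_desc]
  split_ifs
  · rw [map_e' F n h (le_idx n hn k)]
  · rw [comp_zero]

lemma fa_gc : fa F n ≫ gc F n hn = 𝟙 _ := Sigma.hom_ext _ _ fun i => by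
  rw [fa, Sigma.ι_desc_assoc, Preadditive.sum_comp, Category.comp_id,
    Finset.sum_eq_single_of_mem (n i) (Finset.mem_Ico.2 ⟨le_rfl, hn (Nat.lt_succ_self i)⟩)]
  · rw [e_gc F n hn _ _ le_rfl, idx_n, if_pos rfl, e'_n]
  · intro k hk hne
    rw [Finset.mem_Ico] at hk
    rw [e_gc F n hn _ _ hk.1, if_neg fun he => hne ?_]
    have h1 : idx n hn k < i + 1 := hn.lt_iff_lt.1 (he.trans_lt hk.2)
    have h2 : i ≤ idx n hn k := hn.le_iff_le.1 (he.symm ▸ hk.1)
    rw [← he, show idx n hn k = i by omega]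

lemma gd_fb : gd F n hn ≫ fb F n - 𝟙 _ = hty F n hn ≫ one_sub F :=
  Sigma.hom_ext _ _ fun m => by
    rw [Preadditive.comp_sub, gd, Sigma.ι_desc_assoc, e_fb F n _ _ (le_idx n hn m),
      Category.comp_id, hty, Sigma.ι_desc_assoc, Preadditive.neg_comp,
      sum_one_sub F (le_idx n hn m), e_self, neg_sub]

lemma gc_fa : gc F n hn ≫ fa F n - 𝟙 _ = one_sub F ≫ hty F n hn :=
  Sigma.hom_ext _ _ fun m => by
    rw [Preadditive.comp_sub, gc, Sigma.ι_desc_assoc, Category.comp_id, ← Category.assoc,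
      ι_one_sub, Preadditive.sub_comp]
    have h1 : e F m m ≫ hty F n hn = -∑ k ∈ Finset.Ico m (n (idx n hn m)), e F m k := by
      rw [e_self, hty, Sigma.ι_desc]
    have h2 : e F m (m + 1) ≫ hty F n hn =
        -∑ k ∈ Finset.Ico (m + 1) (n (idx n hn (m + 1))), e F m k := by
      rw [e, dif_pos (Nat.le_succ m), Category.assoc, hty, Sigma.ι_desc, Preadditive.comp_neg,
        Preadditive.comp_sum]
      exact congrArg Neg.neg
        (Finset.sum_congr rfl fun k hk => map_e F _ (Finset.mem_Ico.1 hk).1)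
    rw [h1, h2]
    by_cases hm : n (idx n hn m) = m
    · obtain ⟨i, hi⟩ : ∃ i, i = idx n hn m := ⟨_, rfl⟩
      rw [← hi] at hm ⊢
      subst hm
      rw [if_pos rfl, e'_n, fa, Sigma.ι_desc, idx_succ_n,
        Finset.sum_eq_sum_Ico_succ_bot (hn (Nat.lt_succ_self i)), e_self]
      simp
    · have hlt : m < n (idx n hn m) := lt_of_le_of_ne (le_idx n hn m) (Ne.symm hm)
      rw [if_neg hm, zero_comp, zero_sub, idx_succ_of_lt n hn hlt,
        Finset.sum_eq_sum_Ico_succ_bot hlt, e_self]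
      abel

lemma comm_f : one_sub' F n hn ≫ fb F n = fa F n ≫ one_sub F :=
  Sigma.hom_ext _ _ fun i => by
    rw [← Category.assoc, ι_one_sub', fa, Sigma.ι_desc_assoc,
      sum_one_sub F (hn.monotone (Nat.le_succ i)), Preadditive.sub_comp, e_fb F n _ _ le_rfl,
      e_fb F n _ _ (hn.monotone (Nat.le_succ i))]

lemma comm_g : one_sub F ≫ gd F n hn = gc F n hn ≫ one_sub' F n hn :=
  Sigma.hom_ext _ _ fun m => by
    rw [← Category.assoc, ι_one_sub, gc, Sigma.ι_desc_assoc, Preadditive.sub_comp,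
      e_gd F n hn _ _ le_rfl, e_gd F n hn _ _ (Nat.le_succ m)]
    by_cases hm : n (idx n hn m) = m
    · obtain ⟨i, hi⟩ : ∃ i, i = idx n hn m := ⟨_, rfl⟩
      rw [← hi] at hm ⊢
      subst hm
      rw [if_pos rfl, idx_succ_n, e'_n, ι_one_sub', e'_n]
    · rw [if_neg hm, idx_succ_of_lt n hn (lt_of_le_of_ne (le_idx n hn m) (Ne.symm hm)), sub_self,
        zero_comp]

include hn in
theorem exists_iso (L : D) (ι : ∀ m : ℕ, F.obj m ⟶ L)
    (hL : DerLim.IsHocolim (fun m : ℕ => F.obj m)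
      (fun m : ℕ => F.map (homOfLE (Nat.le_succ m))) L ι)
    (L' : D) (ι' : ∀ i : ℕ, F.obj (n i) ⟶ L')
    (hL' : DerLim.IsHocolim (fun i : ℕ => F.obj (n i))
      (fun i : ℕ => F.map (homOfLE (hn.monotone (Nat.le_succ i)))) L' ι') :
    ∃ x : L' ≅ L, ∀ i : ℕ, ι' i ≫ x.hom = ι (n i) := by
  obtain ⟨w, hT⟩ := hL
  obtain ⟨w', hT'⟩ := hL'
  obtain ⟨φ, hφ₁, hφ₂⟩ : ∃ φ : L' ⟶ L, Sigma.desc ι' ≫ φ = fb F n ≫ Sigma.desc ι ∧
      w' ≫ (fa F n)⟦(1 : ℤ)⟧' = φ ≫ w :=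
    complete_distinguished_triangle_morphism _ _ hT' hT (fa F n) (fb F n) (comm_f F n hn)
  obtain ⟨ψ, hψ₁, hψ₂⟩ : ∃ ψ : L ⟶ L', Sigma.desc ι ≫ ψ = gd F n hn ≫ Sigma.desc ι' ∧
      w ≫ (gc F n hn)⟦(1 : ℤ)⟧' = ψ ≫ w' :=
    complete_distinguished_triangle_morphism _ _ hT hT' (gc F n hn) (gd F n hn) (comm_g F n hn)
  have h1 : IsIso (φ ≫ ψ) := isIso_of_homotopic hT' (φ ≫ ψ) 0 (a := 𝟙 _) (b := 𝟙 _) (by simp)
    (by simp) (by rw [reassoc_of% hφ₁, hψ₁, reassoc_of% (fb_gd F n hn), Category.id_comp])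
    (by rw [Category.assoc, ← hψ₂, ← reassoc_of% hφ₂, ← Functor.map_comp, fa_gc])
  have h2 : IsIso (ψ ≫ φ) := isIso_of_homotopic hT (ψ ≫ φ) (hty F n hn) (gc_fa F n hn)
    (gd_fb F n hn) (by rw [reassoc_of% hψ₁, hφ₁, Category.assoc])
    (by rw [Category.assoc, ← hφ₂, ← reassoc_of% hψ₂, ← Functor.map_comp])
  have : Mono φ := mono_of_mono φ ψ
  have : IsSplitEpi φ := ⟨⟨⟨inv (ψ ≫ φ) ≫ ψ, by simp⟩⟩⟩
  have : IsIso φ := isIso_of_mono_of_isSplitEpi φ
  refine ⟨asIso φ, fun i => ?_⟩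
  have := Sigma.ι (fun i : ℕ => F.obj (n i)) i ≫= hφ₁
  rw [Sigma.ι_desc_assoc, fb, Sigma.ι_desc_assoc, e_self, Sigma.ι_desc] at this
  exact this

end Groth.Agent.Lib.Triangulated.HocolimSubseq
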