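import Mathlib.CategoryTheory.Triangulated.Pretriangulated
import Mathlib.CategoryTheory.Limits.Shapes.Kernels

/-!
# Morphisms with kernels in pretriangulated categories
-/

universe v u

open CategoryTheory CategoryTheory.Limits CategoryTheory.Pretriangulated

namespace Groth.Agent.Lib.Triangulated.KernelSplit

variable {D : Type u} [Category.{v} D] [Preadditive D] [HasZeroObject D] [HasShift D ℤ]
  [∀ n : ℤ, (shiftFunctor D n).Additive] [Pretriangulated D]

lemma exists_iso_biprod_of_mono {X Y : D} (f : X ⟶ Y) [Mono f] :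
    ∃ (Q : D) (e : Y ≅ X ⊞ Q), f ≫ e.hom = biprod.inl := by
  obtain ⟨Q, g, h, hT⟩ := distinguished_cocone_triangle f
  have h0 : h = 0 := Triangle.mor₃_eq_zero_of_mono₁ _ hT ‹Mono f›
  obtain ⟨e, he, -⟩ := exists_iso_binaryBiproduct_of_distTriang _ hT h0
  exact ⟨Q, e, he⟩

theorem hasKernel_iff {X Y : D} (f : X ⟶ Y) :
    HasKernel f ↔ ∃ (K Z Q : D) (e₁ : X ≅ K ⊞ Z) (e₂ : Y ≅ Z ⊞ Q),
      f = e₁.hom ≫ biprod.snd ≫ biprod.inl ≫ e₂.inv := by
  constructor
  · intro h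
    obtain ⟨Z, e₁, he₁⟩ := exists_iso_biprod_of_mono (kernel.ι f)
    let f' : Z ⟶ Y := biprod.inr ≫ e₁.inv ≫ f
    have hf : f = e₁.hom ≫ biprod.snd ≫ f' := by
      rw [← cancel_epi e₁.inv, Iso.inv_hom_id_assoc]
      refine biprod.hom_ext' _ _ ?_ ?_
      · rw [← he₁]
        simp [f', reassoc_of% he₁]
      · simp [f']
    have : Mono f' := Preadditive.mono_of_cancel_zero _ fun {P} a ha => by
      obtain ⟨b, hb⟩ := kernel.lift' f (a ≫ biprod.inr ≫ e₁.inv) (by simpa [f'] using ha)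
      have := congrArg (fun t => t ≫ e₁.hom ≫ biprod.snd) hb
      simp only [Category.assoc, Iso.inv_hom_id_assoc, biprod.inr_snd, Category.comp_id] at this
      rw [← this, reassoc_of% he₁, biprod.inl_snd, comp_zero]
    obtain ⟨Q, e₂, he₂⟩ := exists_iso_biprod_of_mono f'
    refine ⟨kernel f, Z, Q, e₁, e₂, ?_⟩
    rw [← he₂]
    simpa using hf
  · rintro ⟨K, Z, Q, e₁, e₂, rfl⟩
    have : Mono (biprod.inl ≫ e₁.inv : K ⟶ X) := mono_comp _ _
    refine ⟨⟨⟨KernelFork.ofι (biprod.inl ≫ e₁.inv) (by simp), ?_⟩⟩⟩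
    refine KernelFork.IsLimit.ofι' _ _ fun {W} g hg => ⟨g ≫ e₁.hom ≫ biprod.fst, ?_⟩
    have hg' : (g ≫ e₁.hom) ≫ biprod.snd = 0 := by
      rw [← cancel_mono (biprod.inl ≫ e₂.inv : Z ⟶ Y), zero_comp]
      simpa using hg
    have : (g ≫ e₁.hom ≫ biprod.fst) ≫ biprod.inl = g ≫ e₁.hom := by
      apply biprod.hom_ext <;> simp_all
    rw [← Category.assoc, this, Category.assoc, Iso.hom_inv_id, Category.comp_id]

end Groth.Agent.Lib.Triangulated.KernelSplit
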