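import Mathlib.CategoryTheory.Triangulated.TStructure.TruncLEGT
import Mathlib.CategoryTheory.Idempotents.Basic

/-!
# Splitting idempotents in triangulated categories
-/

universe v u

open CategoryTheory CategoryTheory.Limits CategoryTheory.Pretriangulated CategoryTheory.Triangulated
open scoped ZeroObject

namespace Groth.Agent.Lib.Triangulated.SplitIdem

set_option backward.isDefEq.respectTransparency false

variable {C : Type u} [Category.{v} C] [Preadditive C] [HasZeroObject C] [HasShift C ℤ]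
  [∀ n : ℤ, (shiftFunctor C n).Additive] [Pretriangulated C]

/-- Splitting of an endomorphism. -/
abbrev Splits {X : C} (p : X ⟶ X) : Prop :=
  ∃ (Y : C) (i : Y ⟶ X) (e : X ⟶ Y), i ≫ e = 𝟙 Y ∧ e ≫ i = p

omit [HasZeroObject C] [HasShift C ℤ] [∀ n : ℤ, (shiftFunctor C n).Additive] [Pretriangulated C] in
/-- An idempotent differing from a split one by a square zero element splits. -/
lemma splits_of_sub_sq_zero {X : C} (p d : X ⟶ X) (hp : p ≫ p = p) (hd : d ≫ d = d)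
    (hn : (p - d) ≫ (p - d) = 0) (h : Splits d) : Splits p := by
  obtain ⟨Y, i, e, hie, hei⟩ := h
  have key : ∀ a b : End X, a * a = a → b * b = b → (a - b) * (a - b) = 0 →
      (b * a + (1 - b) * (1 - a)) * (a * b + (1 - a) * (1 - b)) = 1 ∧
      (a * b + (1 - a) * (1 - b)) * (b * a + (1 - b) * (1 - a)) = 1 ∧
      a * (a * b + (1 - a) * (1 - b)) = (a * b + (1 - a) * (1 - b)) * b := by
    intro a b ha hb hab
    have ha' : ∀ x, a * (a * x) = a * x := fun x => by rw [← mul_assoc, ha]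
    have hb' : ∀ x, b * (b * x) = b * x := fun x => by rw [← mul_assoc, hb]
    simp only [mul_add, add_mul, mul_sub, sub_mul, mul_one, one_mul, mul_assoc, ha, hb, ha', hb']
      at hab ⊢
    refine ⟨?_, ?_, ?_⟩
    · rw [← sub_eq_zero, ← neg_eq_zero, ← hab]; abel
    · rw [← sub_eq_zero, ← neg_eq_zero, ← hab]; abel
    · abel
  obtain ⟨h1, h2, h3⟩ := key p d hp hd hn
  let U : X ⟶ X := (show End X from p) * (show End X from d) +
    (1 - (show End X from p)) * (1 - (show End X from d))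
  let V : X ⟶ X := (show End X from d) * (show End X from p) +
    (1 - (show End X from d)) * (1 - (show End X from p))
  have hUV : U ≫ V = 𝟙 X := h1
  have hVU : V ≫ U = 𝟙 X := h2
  have hUp : U ≫ p = d ≫ U := h3
  refine ⟨Y, i ≫ U, V ≫ e, ?_, ?_⟩
  · rw [Category.assoc, reassoc_of% hUV, hie]
  · rw [Category.assoc, reassoc_of% hei, ← hUp, reassoc_of% hVU]

omit [Preadditive C] [HasZeroObject C] [∀ n : ℤ, (shiftFunctor C n).Additive] [Pretriangulated C] in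
private lemma shift_comp {A B : C} (f : A ⟶ B) {B' : C} (g : B ⟶ B') :
    f⟦(1 : ℤ)⟧' ≫ g⟦(1 : ℤ)⟧' = (f ≫ g)⟦(1 : ℤ)⟧' := (Functor.map_comp _ _ _).symm

/-- An idempotent endomorphism of a distinguished triangle whose outer components split, splits
in the middle. -/
lemma splits_of_triangle (T : Triangle C) (hT : T ∈ distTriang C) (φ : T ⟶ T)
    (hp : φ.hom₂ ≫ φ.hom₂ = φ.hom₂) (h₁ : Splits φ.hom₁) (h₃ : Splits φ.hom₃) :
    Splits φ.hom₂ := by
  obtain ⟨A₁, iA, rA, hA, hA'⟩ := h₁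
  obtain ⟨B₁, iB, rB, hB, hB'⟩ := h₃
  obtain ⟨X₁, f, g, hT₁⟩ := distinguished_cocone_triangle₂ (iB ≫ T.mor₃ ≫ rA⟦(1 : ℤ)⟧')
  have c₃ : (iB ≫ T.mor₃ ≫ rA⟦(1 : ℤ)⟧') ≫ iA⟦(1 : ℤ)⟧' = iB ≫ T.mor₃ := by
    rw [Category.assoc, Category.assoc, shift_comp, hA', φ.comm₃, ← hB', Category.assoc,
      reassoc_of% hB]
  have c₃' : T.mor₃ ≫ rA⟦(1 : ℤ)⟧' = rB ≫ iB ≫ T.mor₃ ≫ rA⟦(1 : ℤ)⟧' := by
    rw [reassoc_of% hB', ← φ.comm₃_assoc, shift_comp, ← hA', Category.assoc, hA, Category.comp_id]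
  obtain ⟨a, ha₁, ha₂⟩ : ∃ a : X₁ ⟶ T.obj₂, f ≫ a = iA ≫ T.mor₁ ∧ g ≫ iB = a ≫ T.mor₂ :=
    complete_distinguished_triangle_morphism₂ _ T hT₁ hT iA iB
    (show (iB ≫ T.mor₃ ≫ rA⟦(1 : ℤ)⟧') ≫ iA⟦(1 : ℤ)⟧' = iB ≫ T.mor₃ from c₃)
  obtain ⟨b, hb₁, hb₂⟩ : ∃ b : T.obj₂ ⟶ X₁, T.mor₁ ≫ b = rA ≫ f ∧ T.mor₂ ≫ rB = b ≫ g :=
    complete_distinguished_triangle_morphism₂ T _ hT hT₁ rA rB
    (show T.mor₃ ≫ rA⟦(1 : ℤ)⟧' = rB ≫ iB ≫ T.mor₃ ≫ rA⟦(1 : ℤ)⟧' from c₃')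
  have hf : f ≫ a ≫ b = f := by rw [reassoc_of% ha₁, hb₁, reassoc_of% hA]
  have hg : (a ≫ b) ≫ g = g := by rw [Category.assoc, ← hb₂, ← reassoc_of% ha₂, hB, Category.comp_id]
  have : IsIso (a ≫ b) := isIso₂_of_isIso₁₃
    (Triangle.homMk (Triangle.mk f g _) (Triangle.mk f g _) (𝟙 A₁) (a ≫ b) (𝟙 B₁)
      (hf.trans (Category.id_comp f).symm) ((Category.comp_id g).trans hg.symm)
      (((congrArg ((Triangle.mk f g (iB ≫ T.mor₃ ≫ rA⟦(1 : ℤ)⟧')).mor₃ ≫ ·) ((shiftFunctor C (1 : ℤ)).map_id A₁)).trans (Category.comp_id _)).trans (Category.id_comp _).symm)) hT₁ hT₁ (show IsIso (𝟙 A₁) from inferInstance) (show IsIso (𝟙 B₁) from inferInstance)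
  let ψ := b ≫ inv (a ≫ b)
  have hψ : a ≫ ψ = 𝟙 X₁ := (Category.assoc _ _ _).symm.trans (IsIso.hom_inv_id (a ≫ b))
  refine splits_of_sub_sq_zero φ.hom₂ (ψ ≫ a) hp (by rw [Category.assoc, reassoc_of% hψ]) ?_
    ⟨X₁, a, ψ, hψ, rfl⟩
  have hl : T.mor₁ ≫ (φ.hom₂ - ψ ≫ a) = 0 := by
    rw [Preadditive.comp_sub, φ.comm₁, sub_eq_zero]
    simp only [ψ, Category.assoc]
    rw [reassoc_of% hb₁]
    have : f ≫ inv (a ≫ b) = f := by rw [IsIso.comp_inv_eq, hf]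
    rw [reassoc_of% this, ha₁, ← Category.assoc, hA']
  have hr : (φ.hom₂ - ψ ≫ a) ≫ T.mor₂ = 0 := by
    rw [Preadditive.sub_comp, ← φ.comm₂, sub_eq_zero]
    have : inv (a ≫ b) ≫ g = g := by rw [IsIso.inv_comp_eq, hg]
    simp only [ψ, Category.assoc]
    rw [← ha₂, reassoc_of% this, ← reassoc_of% hb₂, hB']
  obtain ⟨m, hm⟩ := Triangle.yoneda_exact₂ T hT _ hl
  exact (congrArg ((φ.hom₂ - ψ ≫ a) ≫ ·) hm).trans ((Category.assoc _ _ _).symm.trans
    ((congrArg (· ≫ m) hr).trans zero_comp))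

variable (t : TStructure C)

/-- Idempotents of pure objects split. -/
lemma splits_pure {M : C} (b : ℤ) [t.IsGE M b] [t.IsLE M b] (p : M ⟶ M) (hp : p ≫ p = p) :
    Splits p := by
  obtain ⟨Z, g, h, hT⟩ := distinguished_cocone_triangle (𝟙 M - p)
  obtain ⟨j, hj⟩ : ∃ j : Z ⟶ M, p = g ≫ j := Triangle.yoneda_exact₂ _ hT p (by simp only [Triangle.mk_mor₁, Preadditive.sub_comp]; erw [Category.id_comp, hp]; rw [sub_self])
  refine ⟨(t.truncGE b).obj Z, t.descTruncGE j b, g ≫ (t.truncGEπ b).app Z, ?_,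
    by rw [Category.assoc, t.π_descTruncGE, ← hj]⟩
  have hgp : p ≫ g = g := by
    have h0 : (𝟙 M - p) ≫ g = 0 := comp_distTriang_mor_zero₁₂ _ hT
    rw [Preadditive.sub_comp, Category.id_comp, sub_eq_zero] at h0
    exact h0.symm
  apply t.from_truncGE_obj_ext
  rw [← Category.assoc, t.π_descTruncGE j b, Category.comp_id]
  have key : ∀ q : Z ⟶ (t.truncGE b).obj Z, j ≫ g ≫ q - q = 0 := by
    intro q
    obtain ⟨m, hm⟩ : ∃ m : M⟦(1 : ℤ)⟧ ⟶ (t.truncGE b).obj Z, j ≫ g ≫ q - q = h ≫ m :=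
      Triangle.yoneda_exact₃ _ hT (j ≫ g ≫ q - q) (by
        change g ≫ _ = 0
        rw [Preadditive.comp_sub, ← reassoc_of% hj, reassoc_of% hgp, sub_self])
    have : m = 0 := t.zero_of_isLE_of_isGE m (b - 1) b (by omega)
      (t.isLE_shift M b 1 (b - 1) (by omega)) inferInstance
    rw [hm, this, comp_zero]
  exact sub_eq_zero.1 (key ((t.truncGEπ b).app Z))

theorem isIdempotentComplete [IsTriangulated C] (hb : ∀ X : C, t.bounded X) :
    IsIdempotentComplete C := by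
  refine ⟨fun X p hp => ?_⟩
  obtain ⟨⟨a, ha⟩, ⟨b, hb⟩⟩ := hb X
  suffices ∀ (k : ℕ) (X : C), t.IsGE X a → t.IsLE X (a + k - 1) → ∀ p : X ⟶ X, p ≫ p = p → Splits p
    from this (b - a + 1).toNat X ha (t.isLE_of_le X b _ (by omega)) p hp
  intro k
  induction k with
  | zero =>
    intro X _ _ p hp
    have hz : IsZero X := t.isZero X (a + (0 : ℕ) - 1) a (by simp)
    exact ⟨X, 𝟙 X, 𝟙 X, by simp, hz.eq_of_src _ _⟩
  | succ k ih =>
    intro X hGE hLE p hp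
    let T := (t.triangleLTGE (a + k)).obj X
    have hsq : ∀ (F : C ⥤ C), F.map p ≫ F.map p = F.map p := fun F => by rw [← F.map_comp, hp]
    refine splits_of_triangle T (t.triangleLTGE_distinguished _ X) ((t.triangleLTGE (a + k)).map p)
      hp ?_ ?_
    · exact ih _ (inferInstanceAs (t.IsGE ((t.truncLT (a + k)).obj X) a))
        (t.isLE_truncLT_obj X (a + k) (a + k - 1) (by omega)) _ (hsq (t.truncLT _))
    · have : t.IsLE X (a + k) := t.isLE_of_le X (a + (k + 1 : ℕ) - 1) _ (by omega)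
      exact @splits_pure _ _ _ _ _ _ _ t ((t.truncGE (a + k)).obj X) (a + k) inferInstance
        inferInstance _ (hsq (t.truncGE _))

end Groth.Agent.Lib.Triangulated.SplitIdem
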